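import Cfsg.Agent.Spor.McA.D0

set_option autoImplicit false
set_option maxRecDepth 100000000
set_option Elab.async false

namespace Cfsg.Agent.Spor.McA

theorem rot5_24 : T.rot 5 [3, 8, 4, 2, 5, 3, 4, 2, 7, 3, 5, 2, 4] (sel (ones 22275) ip5 24) = true := by decide +kernel

theorem rot5_24r : band (Rule.ok (2 * 6) EX RL ⟨5 :: [3, 8, 4, 2, 5, 3, 4, 2, 7, 3, 5, 2, 4], [8, 2, 6], 13, true⟩) (lall (memL L) [3, 8, 4, 2, 5, 3, 4, 2, 7, 3, 5, 2, 4]) = true := by decide +kernel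

theorem rot5_25 : T.rot 5 [3, 4, 2, 7, 3, 5, 2, 4, 5, 3, 8, 4, 2] (sel (ones 22275) ip5 25) = true := by decide +kernel

theorem rot5_25r : band (Rule.ok (2 * 6) EX RL ⟨5 :: [3, 4, 2, 7, 3, 5, 2, 4, 5, 3, 8, 4, 2], [4, 12, 2, 6, 4, 8], 13, true⟩) (lall (memL L) [3, 4, 2, 7, 3, 5, 2, 4, 5, 3, 8, 4, 2]) = true := by decide +kernel

theorem rot5_26 : T.rot 5 [2, 4, 7, 3, 5, 4, 2, 5, 3, 8, 2, 4, 3] (sel (ones 22275) ip5 26) = true := by decide +kernel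

theorem rot5_26r : band (Rule.ok (2 * 6) EX RL ⟨5 :: [2, 4, 7, 3, 5, 4, 2, 5, 3, 8, 2, 4, 3], [4, 12, 2, 6, 4], 13, false⟩) (lall (memL L) [2, 4, 7, 3, 5, 4, 2, 5, 3, 8, 2, 4, 3]) = true := by decide +kernel

theorem rot5_27 : T.rot 5 [4, 2, 5, 3, 8, 2, 4, 3, 5, 2, 4, 7, 3] (sel (ones 22275) ip5 27) = true := by decide +kernel

theorem rot5_27r : band (Rule.ok (2 * 6) EX RL ⟨5 :: [4, 2, 5, 3, 8, 2, 4, 3, 5, 2, 4, 7, 3], [8, 2, 6, 8], 13, false⟩) (lall (memL L) [4, 2, 5, 3, 8, 2, 4, 3, 5, 2, 4, 7, 3]) = true := by decide +kernel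

theorem rot5_28 : T.rot 5 [3, 8, 2, 4, 3, 5, 2, 4, 7, 3, 5, 4, 2] (sel (ones 22275) ip5 28) = true := by decide +kernel

theorem rot5_28r : band (Rule.ok (2 * 6) EX RL ⟨5 :: [3, 8, 2, 4, 3, 5, 2, 4, 7, 3, 5, 4, 2], [8], 13, false⟩) (lall (memL L) [3, 8, 2, 4, 3, 5, 2, 4, 7, 3, 5, 4, 2]) = true := by decide +kernel

theorem rot5_29 : T.rot 5 [1, 6, 5, 1, 6, 5, 1, 6, 5, 1, 6, 5, 1, 6] (sel (ones 22275) ip5 29) = true := by decide +kernel

theorem rot5_29r : band (Rule.ok (2 * 6) EX RL ⟨5 :: [1, 6, 5, 1, 6, 5, 1, 6, 5, 1, 6, 5, 1, 6], [], 36, false⟩) (lall (memL L) [1, 6, 5, 1, 6, 5, 1, 6, 5, 1, 6, 5, 1, 6]) = true := by decide +kernel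

theorem rot5_30 : T.rot 5 [6, 1, 5, 6, 1, 5, 6, 1, 5, 6, 1, 5, 6, 1] (sel (ones 22275) ip5 30) = true := by decide +kernel

theorem rot5_30r : band (Rule.ok (2 * 6) EX RL ⟨5 :: [6, 1, 5, 6, 1, 5, 6, 1, 5, 6, 1, 5, 6, 1], [0], 33, false⟩) (lall (memL L) [6, 1, 5, 6, 1, 5, 6, 1, 5, 6, 1, 5, 6, 1]) = true := by decide +kernel

theorem rot5_31 : T.rot 5 [2, 6, 5, 2, 6, 5, 2, 6, 5, 2, 6, 5, 2, 6] (sel (ones 22275) ip5 31) = true := by decide +kernel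

theorem rot5_31r : band (Rule.ok (2 * 6) EX RL ⟨5 :: [2, 6, 5, 2, 6, 5, 2, 6, 5, 2, 6, 5, 2, 6], [10], 37, true⟩) (lall (memL L) [2, 6, 5, 2, 6, 5, 2, 6, 5, 2, 6, 5, 2, 6]) = true := by decide +kernel

theorem rot5_32 : T.rot 5 [6, 2, 5, 6, 2, 5, 6, 2, 5, 6, 2, 5, 6, 2] (sel (ones 22275) ip5 32) = true := by decide +kernel

theorem rot5_32r : band (Rule.ok (2 * 6) EX RL ⟨5 :: [6, 2, 5, 6, 2, 5, 6, 2, 5, 6, 2, 5, 6, 2], [2], 37, false⟩) (lall (memL L) [6, 2, 5, 6, 2, 5, 6, 2, 5, 6, 2, 5, 6, 2]) = true := by decide +kernel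

theorem rot5_33 : T.rot 5 [3, 6, 5, 3, 6, 5, 3, 6, 5, 3, 6, 5, 3, 6] (sel (ones 22275) ip5 33) = true := by decide +kernel

theorem rot5_33r : band (Rule.ok (2 * 6) EX RL ⟨5 :: [3, 6, 5, 3, 6, 5, 3, 6, 5, 3, 6, 5, 3, 6], [10], 38, true⟩) (lall (memL L) [3, 6, 5, 3, 6, 5, 3, 6, 5, 3, 6, 5, 3, 6]) = true := by decide +kernel

theorem rot5_34 : T.rot 5 [6, 3, 5, 6, 3, 5, 6, 3, 5, 6, 3, 5, 6, 3] (sel (ones 22275) ip5 34) = true := by decide +kernel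

theorem rot5_34r : band (Rule.ok (2 * 6) EX RL ⟨5 :: [6, 3, 5, 6, 3, 5, 6, 3, 5, 6, 3, 5, 6, 3], [4], 38, false⟩) (lall (memL L) [6, 3, 5, 6, 3, 5, 6, 3, 5, 6, 3, 5, 6, 3]) = true := by decide +kernel

theorem rot5_35 : T.rot 5 [6, 7, 5, 6, 7, 5, 6, 7, 5, 6, 7, 5, 6, 7] (sel (ones 22275) ip5 35) = true := by decide +kernel

theorem rot5_35r : band (Rule.ok (2 * 6) EX RL ⟨5 :: [6, 7, 5, 6, 7, 5, 6, 7, 5, 6, 7, 5, 6, 7], [8], 39, true⟩) (lall (memL L) [6, 7, 5, 6, 7, 5, 6, 7, 5, 6, 7, 5, 6, 7]) = true := by decide +kernel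

theorem rot5_36 : T.rot 5 [8, 6, 5, 8, 6, 5, 8, 6, 5, 8, 6, 5, 8, 6] (sel (ones 22275) ip5 36) = true := by decide +kernel

theorem rot5_36r : band (Rule.ok (2 * 6) EX RL ⟨5 :: [8, 6, 5, 8, 6, 5, 8, 6, 5, 8, 6, 5, 8, 6], [], 39, false⟩) (lall (memL L) [8, 6, 5, 8, 6, 5, 8, 6, 5, 8, 6, 5, 8, 6]) = true := by decide +kernel

theorem ep8a : T.treePath [6, 4, 5, 4, 6, 7, 4] (Nat.shiftLeft 1 603) 1 = true := by decide +kernel

theorem ep8b : T.treePath [6, 4, 5, 4, 6, 5, 4, 8] (Nat.shiftLeft 1 1671) 1 = true := by decide +kernel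

theorem ep8c : band (lall (fun z => Nat.ble z 255) ([6, 4, 5, 4, 6, 7, 4] ++ 5 :: [7, 4, 5, 6, 4, 5, 4, 6])) (concl F IV 52698 0x200005000088000ec00156001d1002568033bc329ec004b2000e90002a800074000100000200000010 (encA ([6, 4, 5, 4, 6, 7, 4] ++ 5 :: [7, 4, 5, 6, 4, 5, 4, 6]) 0)) = true := by decide +kernel

theorem ep8d : band (Rule.ok (2 * 6) EX [] ⟨lapp [6, 4, 5, 4, 6, 5, 4, 8] [7, 4, 5, 6, 4, 5, 4, 6], [], 0, false⟩) (band (lall (memL L) [6, 4, 5, 4, 6, 7, 4]) (lall (memL L) [6, 4, 5, 4, 6, 5, 4, 8])) = true := by decide +kernel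

theorem cov5 : T.cover 5 [(sel (ones 22275) ip5 1), (sel (ones 22275) ip5 2), (sel (ones 22275) ip5 3), (sel (ones 22275) ip5 4), (sel (ones 22275) ip5 5), (sel (ones 22275) ip5 6), (sel (ones 22275) ip5 7), (sel (ones 22275) ip5 8), (sel (ones 22275) ip5 9), (sel (ones 22275) ip5 10), (sel (ones 22275) ip5 11), (sel (ones 22275) ip5 12), (sel (ones 22275) ip5 13), (sel (ones 22275) ip5 14), (sel (ones 22275) ip5 15), (sel (ones 22275) ip5 16), (sel (ones 22275) ip5 17), (sel (ones 22275) ip5 18), (sel (ones 22275) ip5 19), (sel (ones 22275) ip5 20), (sel (ones 22275) ip5 21), (sel (ones 22275) ip5 22), (sel (ones 22275) ip5 23), (sel (ones 22275) ip5 24), (sel (ones 22275) ip5 25), (sel (ones 22275) ip5 26), (sel (ones 22275) ip5 27), (sel (ones 22275) ip5 28), (sel (ones 22275) ip5 29), (sel (ones 22275) ip5 30), (sel (ones 22275) ip5 31), (sel (ones 22275) ip5 32), (sel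 (ones 22275) ip5 33), (sel (ones 22275) ip5 34), (sel (ones 22275) ip5 35), (sel (ones 22275) ip5 36), 1, (Nat.shiftLeft 1 603)] = true := by decide +kernel

theorem tl5 : T.treeLt 15 5 = true := by decide +kernel

theorem rot6_1 : T.rot 6 [6] (sel (ones 22275) ip6 1) = true := by decide +kernel

theorem rot6_1r : band (Rule.ok (2 * 6) EX RL ⟨6 :: [6], [], 42, false⟩) (lall (memL L) [6]) = true := by decide +kernel

theorem rot6_2 : T.rot 6 [2, 6, 2] (sel (ones 22275) ip6 2) = true := by decide +kernel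

theorem rot6_2r : band (Rule.ok (2 * 6) EX RL ⟨6 :: [2, 6, 2], [], 26, false⟩) (lall (memL L) [2, 6, 2]) = true := by decide +kernel

theorem rot6_3 : T.rot 6 [7, 6, 7] (sel (ones 22275) ip6 3) = true := by decide +kernel

theorem rot6_3r : band (Rule.ok (2 * 6) EX RL ⟨6 :: [7, 6, 7], [10], 27, true⟩) (lall (memL L) [7, 6, 7]) = true := by decide +kernel

theorem rot6_4 : T.rot 6 [8, 6, 8] (sel (ones 22275) ip6 4) = true := by decide +kernel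

theorem rot6_4r : band (Rule.ok (2 * 6) EX RL ⟨6 :: [8, 6, 8], [], 27, false⟩) (lall (memL L) [8, 6, 8]) = true := by decide +kernel

theorem rot6_5 : T.rot 6 [3, 6, 7, 3, 8] (sel (ones 22275) ip6 5) = true := by decide +kernel

theorem rot6_5r : band (Rule.ok (2 * 6) EX RL ⟨6 :: [3, 6, 7, 3, 8], [], 28, false⟩) (lall (memL L) [3, 6, 7, 3, 8]) = true := by decide +kernel

theorem rot6_6 : T.rot 6 [7, 3, 8, 6, 3] (sel (ones 22275) ip6 6) = true := by decide +kernel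

theorem rot6_6r : band (Rule.ok (2 * 6) EX RL ⟨6 :: [7, 3, 8, 6, 3], [10], 28, true⟩) (lall (memL L) [7, 3, 8, 6, 3]) = true := by decide +kernel

theorem rot6_7 : T.rot 6 [1, 6, 1, 6, 1] (sel (ones 22275) ip6 7) = true := by decide +kernel

theorem rot6_7r : band (Rule.ok (2 * 6) EX RL ⟨6 :: [1, 6, 1, 6, 1], [], 29, true⟩) (lall (memL L) [1, 6, 1, 6, 1]) = true := by decide +kernel

theorem rot6_8 : T.rot 6 [4, 6, 4, 6, 4, 6, 4, 6, 4] (sel (ones 22275) ip6 8) = true := by decide +kernel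

theorem rot6_8r : band (Rule.ok (2 * 6) EX RL ⟨6 :: [4, 6, 4, 6, 4, 6, 4, 6, 4], [], 30, true⟩) (lall (memL L) [4, 6, 4, 6, 4, 6, 4, 6, 4]) = true := by decide +kernel

theorem rot6_9 : T.rot 6 [5, 6, 5, 6, 5, 6, 5, 6, 5] (sel (ones 22275) ip6 9) = true := by decide +kernel

theorem rot6_9r : band (Rule.ok (2 * 6) EX RL ⟨6 :: [5, 6, 5, 6, 5, 6, 5, 6, 5], [], 32, true⟩) (lall (memL L) [5, 6, 5, 6, 5, 6, 5, 6, 5]) = true := by decide +kernel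

theorem rot6_10 : T.rot 6 [5, 1, 6, 5, 1, 6, 5, 1, 6, 5, 1, 6, 5, 1] (sel (ones 22275) ip6 10) = true := by decide +kernel

theorem rot6_10r : band (Rule.ok (2 * 6) EX RL ⟨6 :: [5, 1, 6, 5, 1, 6, 5, 1, 6, 5, 1, 6, 5, 1], [], 33, true⟩) (lall (memL L) [5, 1, 6, 5, 1, 6, 5, 1, 6, 5, 1, 6, 5, 1]) = true := by decide +kernel

theorem rot6_11 : T.rot 6 [1, 5, 6, 1, 5, 6, 1, 5, 6, 1, 5, 6, 1, 5] (sel (ones 22275) ip6 11) = true := by decide +kernel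

theorem rot6_11r : band (Rule.ok (2 * 6) EX RL ⟨6 :: [1, 5, 6, 1, 5, 6, 1, 5, 6, 1, 5, 6, 1, 5], [], 36, true⟩) (lall (memL L) [1, 5, 6, 1, 5, 6, 1, 5, 6, 1, 5, 6, 1, 5]) = true := by decide +kernel

theorem rot6_12 : T.rot 6 [4, 2, 6, 4, 2, 6, 4, 2, 6, 4, 2, 6, 4, 2] (sel (ones 22275) ip6 12) = true := by decide +kernel

theorem rot6_12r : band (Rule.ok (2 * 6) EX RL ⟨6 :: [4, 2, 6, 4, 2, 6, 4, 2, 6, 4, 2, 6, 4, 2], [], 34, true⟩) (lall (memL L) [4, 2, 6, 4, 2, 6, 4, 2, 6, 4, 2, 6, 4, 2]) = true := by decide +kernel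

theorem rot6_13 : T.rot 6 [2, 4, 6, 2, 4, 6, 2, 4, 6, 2, 4, 6, 2, 4] (sel (ones 22275) ip6 13) = true := by decide +kernel

theorem rot6_13r : band (Rule.ok (2 * 6) EX RL ⟨6 :: [2, 4, 6, 2, 4, 6, 2, 4, 6, 2, 4, 6, 2, 4], [10], 34, false⟩) (lall (memL L) [2, 4, 6, 2, 4, 6, 2, 4, 6, 2, 4, 6, 2, 4]) = true := by decide +kernel

theorem rot6_14 : T.rot 6 [7, 4, 6, 7, 4, 6, 7, 4, 6, 7, 4, 6, 7, 4] (sel (ones 22275) ip6 14) = true := by decide +kernel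

theorem rot6_14r : band (Rule.ok (2 * 6) EX RL ⟨6 :: [7, 4, 6, 7, 4, 6, 7, 4, 6, 7, 4, 6, 7, 4], [], 35, true⟩) (lall (memL L) [7, 4, 6, 7, 4, 6, 7, 4, 6, 7, 4, 6, 7, 4]) = true := by decide +kernel

theorem rot6_15 : T.rot 6 [4, 8, 6, 4, 8, 6, 4, 8, 6, 4, 8, 6, 4, 8] (sel (ones 22275) ip6 15) = true := by decide +kernel

theorem rot6_15r : band (Rule.ok (2 * 6) EX RL ⟨6 :: [4, 8, 6, 4, 8, 6, 4, 8, 6, 4, 8, 6, 4, 8], [], 40, true⟩) (lall (memL L) [4, 8, 6, 4, 8, 6, 4, 8, 6, 4, 8, 6, 4, 8]) = true := by decide +kernel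

theorem rot6_16 : T.rot 6 [5, 2, 6, 5, 2, 6, 5, 2, 6, 5, 2, 6, 5, 2] (sel (ones 22275) ip6 16) = true := by decide +kernel

theorem rot6_16r : band (Rule.ok (2 * 6) EX RL ⟨6 :: [5, 2, 6, 5, 2, 6, 5, 2, 6, 5, 2, 6, 5, 2], [], 37, true⟩) (lall (memL L) [5, 2, 6, 5, 2, 6, 5, 2, 6, 5, 2, 6, 5, 2]) = true := by decide +kernel

theorem rot6_17 : T.rot 6 [2, 5, 6, 2, 5, 6, 2, 5, 6, 2, 5, 6, 2, 5] (sel (ones 22275) ip6 17) = true := by decide +kernel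

theorem rot6_17r : band (Rule.ok (2 * 6) EX RL ⟨6 :: [2, 5, 6, 2, 5, 6, 2, 5, 6, 2, 5, 6, 2, 5], [10], 37, false⟩) (lall (memL L) [2, 5, 6, 2, 5, 6, 2, 5, 6, 2, 5, 6, 2, 5]) = true := by decide +kernel

theorem rot6_18 : T.rot 6 [5, 3, 6, 5, 3, 6, 5, 3, 6, 5, 3, 6, 5, 3] (sel (ones 22275) ip6 18) = true := by decide +kernel

theorem rot6_18r : band (Rule.ok (2 * 6) EX RL ⟨6 :: [5, 3, 6, 5, 3, 6, 5, 3, 6, 5, 3, 6, 5, 3], [], 38, true⟩) (lall (memL L) [5, 3, 6, 5, 3, 6, 5, 3, 6, 5, 3, 6, 5, 3]) = true := by decide +kernel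

theorem rot6_19 : T.rot 6 [3, 5, 6, 3, 5, 6, 3, 5, 6, 3, 5, 6, 3, 5] (sel (ones 22275) ip6 19) = true := by decide +kernel

theorem rot6_19r : band (Rule.ok (2 * 6) EX RL ⟨6 :: [3, 5, 6, 3, 5, 6, 3, 5, 6, 3, 5, 6, 3, 5], [10], 38, false⟩) (lall (memL L) [3, 5, 6, 3, 5, 6, 3, 5, 6, 3, 5, 6, 3, 5]) = true := by decide +kernel

theorem rot6_20 : T.rot 6 [7, 5, 6, 7, 5, 6, 7, 5, 6, 7, 5, 6, 7, 5] (sel (ones 22275) ip6 20) = true := by decide +kernel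

theorem rot6_20r : band (Rule.ok (2 * 6) EX RL ⟨6 :: [7, 5, 6, 7, 5, 6, 7, 5, 6, 7, 5, 6, 7, 5], [], 39, true⟩) (lall (memL L) [7, 5, 6, 7, 5, 6, 7, 5, 6, 7, 5, 6, 7, 5]) = true := by decide +kernel

theorem rot6_21 : T.rot 6 [5, 8, 6, 5, 8, 6, 5, 8, 6, 5, 8, 6, 5, 8] (sel (ones 22275) ip6 21) = true := by decide +kernel

theorem rot6_21r : band (Rule.ok (2 * 6) EX RL ⟨6 :: [5, 8, 6, 5, 8, 6, 5, 8, 6, 5, 8, 6, 5, 8], [], 41, true⟩) (lall (memL L) [5, 8, 6, 5, 8, 6, 5, 8, 6, 5, 8, 6, 5, 8]) = true := by decide +kernel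

theorem rot6_22 : T.rot 6 [1, 4, 1, 6, 1, 4, 1, 6, 1, 4, 1, 6, 1, 4, 1, 6, 1, 4, 1] (sel (ones 22275) ip6 22) = true := by decide +kernel

theorem rot6_22r : band (Rule.ok (2 * 6) EX RL ⟨6 :: [1, 4, 1, 6, 1, 4, 1, 6, 1, 4, 1, 6, 1, 4, 1, 6, 1, 4, 1], [], 31, true⟩) (lall (memL L) [1, 4, 1, 6, 1, 4, 1, 6, 1, 4, 1, 6, 1, 4, 1, 6, 1, 4, 1]) = true := by decide +kernel

theorem ep5a : T.treePath [6, 1, 4, 5, 6, 4] (Nat.shiftLeft 1 149) 1 = true := by decide +kernel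

theorem ep5b : T.treePath [6, 4, 5, 6, 4, 7] (Nat.shiftLeft 1 253) 1 = true := by decide +kernel

theorem ep5c : band (lall (fun z => Nat.ble z 255) ([6, 1, 4, 5, 6, 4] ++ 6 :: [8, 4, 6, 5, 4, 6])) (concl F IV 52698 0x40000a000110001e8002d4003f210350000940001a00004400008000010000000d (encA ([6, 1, 4, 5, 6, 4] ++ 6 :: [8, 4, 6, 5, 4, 6]) 0)) = true := by decide +kernel

theorem ep5d : band (Rule.ok (2 * 6) EX [] ⟨lapp [6, 4, 5, 6, 4, 7] [8, 4, 6, 5, 4, 6], [], 0, false⟩) (band (lall (memL L) [6, 1, 4, 5, 6, 4]) (lall (memL L) [6, 4, 5, 6, 4, 7])) = true := by decide +kernel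

theorem ep7a : T.treePath [6, 4, 5, 4, 6, 5] (Nat.shiftLeft 1 233) 1 = true := by decide +kernel

theorem ep7b : T.treePath [6, 1, 5, 4, 6, 5, 7] (Nat.shiftLeft 1 447) 1 = true := by decide +kernel

theorem ep7c : band (lall (fun z => Nat.ble z 255) ([6, 4, 5, 4, 6, 5] ++ 6 :: [8, 5, 6, 4, 5, 1, 6])) (concl F IV 52698 0x80000c000160002b0003d800564006fa15e96000e80002a80007400010000020000000e (encA ([6, 4, 5, 4, 6, 5] ++ 6 :: [8, 5, 6, 4, 5, 1, 6]) 0)) = true := by decide +kernel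

theorem ep7d : band (Rule.ok (2 * 6) EX [] ⟨lapp [6, 1, 5, 4, 6, 5, 7] [8, 5, 6, 4, 5, 1, 6], [], 0, false⟩) (band (lall (memL L) [6, 4, 5, 4, 6, 5]) (lall (memL L) [6, 1, 5, 4, 6, 5, 7])) = true := by decide +kernel

theorem ep10a : T.treePath [6, 4, 3, 5, 4, 6, 5, 4] (Nat.shiftLeft 1 1350) 1 = true := by decide +kernel

theorem ep10b : T.treePath [6, 5, 4, 3, 6, 5, 2, 4] (Nat.shiftLeft 1 2296) 1 = true := by decide +kernel

theorem ep10c : band (lall (fun z => Nat.ble z 255) ([6, 4, 3, 5, 4, 6, 5, 4] ++ 6 :: [4, 2, 5, 6, 3, 4, 5, 6])) (concl F IV 52698 0x40000e0001b000288003ac004da00667008ba866ec8014f8003e4000c5000240000640000e0000200000011 (encA ([6, 4, 3, 5, 4, 6, 5, 4] ++ 6 :: [4, 2, 5, 6, 3, 4, 5, 6]) 0)) = true := by decide +kernel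

theorem ep10d : band (Rule.ok (2 * 6) EX [] ⟨lapp [6, 5, 4, 3, 6, 5, 2, 4] [4, 2, 5, 6, 3, 4, 5, 6], [], 0, false⟩) (band (lall (memL L) [6, 4, 3, 5, 4, 6, 5, 4]) (lall (memL L) [6, 5, 4, 3, 6, 5, 2, 4])) = true := by decide +kernel

theorem cov6 : T.cover 6 [(sel (ones 22275) ip6 1), (sel (ones 22275) ip6 2), (sel (ones 22275) ip6 3), (sel (ones 22275) ip6 4), (sel (ones 22275) ip6 5), (sel (ones 22275) ip6 6), (sel (ones 22275) ip6 7), (sel (ones 22275) ip6 8), (sel (ones 22275) ip6 9), (sel (ones 22275) ip6 10), (sel (ones 22275) ip6 11), (sel (ones 22275) ip6 12), (sel (ones 22275) ip6 13), (sel (ones 22275) ip6 14), (sel (ones 22275) ip6 15), (sel (ones 22275) ip6 16), (sel (ones 22275) ip6 17), (sel (ones 22275) ip6 18), (sel (ones 22275) ip6 19), (sel (ones 22275) ip6 20), (sel (ones 22275) ip6 21), (sel (ones 22275) ip6 22), (Nat.shiftLeft 1 149), (Nat.shiftLeft 1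 233), (Nat.shiftLeft 1 1350)] = true := by decide +kernel

theorem tl6 : T.treeLt 15 6 = true := by decide +kernel

theorem rot7_1 : T.rot 7 [8] (sel (ones 22275) ip7 1) = true := by decide +kernel

theorem rot7_1r : band (Rule.ok (2 * 6) EX RL ⟨7 :: [8], [], 42, false⟩) (lall (memL L) [8]) = true := by decide +kernel

theorem rot7_2 : T.rot 7 [7, 7] (sel (ones 22275) ip7 2) = true := by decide +kernel

theorem rot7_2r : band (Rule.ok (2 * 6) EX RL ⟨7 :: [7, 7], [], 0, true⟩) (lall (memL L) [7, 7]) = true := by decide +kernel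

theorem rot7_3 : T.rot 7 [1, 7, 1] (sel (ones 22275) ip7 3) = true := by decide +kernel

theorem rot7_3r : band (Rule.ok (2 * 6) EX RL ⟨7 :: [1, 7, 1], [], 14, true⟩) (lall (memL L) [1, 7, 1]) = true := by decide +kernel

theorem rot7_4 : T.rot 7 [6, 7, 6] (sel (ones 22275) ip7 4) = true := by decide +kernel

theorem rot7_4r : band (Rule.ok (2 * 6) EX RL ⟨7 :: [6, 7, 6], [], 27, true⟩) (lall (memL L) [6, 7, 6]) = true := by decide +kernel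

theorem rot7_5 : T.rot 7 [3, 7, 3, 7, 3] (sel (ones 22275) ip7 5) = true := by decide +kernel

theorem rot7_5r : band (Rule.ok (2 * 6) EX RL ⟨7 :: [3, 7, 3, 7, 3], [12], 1, true⟩) (lall (memL L) [3, 7, 3, 7, 3]) = true := by decide +kernel

theorem rot7_6 : T.rot 7 [4, 7, 4, 7, 4] (sel (ones 22275) ip7 6) = true := by decide +kernel

theorem rot7_6r : band (Rule.ok (2 * 6) EX RL ⟨7 :: [4, 7, 4, 7, 4], [12], 2, true⟩) (lall (memL L) [4, 7, 4, 7, 4]) = true := by decide +kernel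

theorem rot7_7 : T.rot 7 [2, 7, 2, 7, 2] (sel (ones 22275) ip7 7) = true := by decide +kernel

theorem rot7_7r : band (Rule.ok (2 * 6) EX RL ⟨7 :: [2, 7, 2, 7, 2], [12], 6, true⟩) (lall (memL L) [2, 7, 2, 7, 2]) = true := by decide +kernel

theorem rot7_8 : T.rot 7 [5, 7, 5, 7, 5] (sel (ones 22275) ip7 8) = true := by decide +kernel

theorem rot7_8r : band (Rule.ok (2 * 6) EX RL ⟨7 :: [5, 7, 5, 7, 5], [], 23, true⟩) (lall (memL L) [5, 7, 5, 7, 5]) = true := by decide +kernel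

theorem rot7_9 : T.rot 7 [1, 4, 7, 1, 4] (sel (ones 22275) ip7 9) = true := by decide +kernel

theorem rot7_9r : band (Rule.ok (2 * 6) EX RL ⟨7 :: [1, 4, 7, 1, 4], [], 24, true⟩) (lall (memL L) [1, 4, 7, 1, 4]) = true := by decide +kernel

theorem rot7_10 : T.rot 7 [5, 1, 7, 5, 1] (sel (ones 22275) ip7 10) = true := by decide +kernel

theorem rot7_10r : band (Rule.ok (2 * 6) EX RL ⟨7 :: [5, 1, 7, 5, 1], [0], 25, true⟩) (lall (memL L) [5, 1, 7, 5, 1]) = true := by decide +kernel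

theorem rot7_11 : T.rot 7 [3, 8, 6, 3, 6] (sel (ones 22275) ip7 11) = true := by decide +kernel

theorem rot7_11r : band (Rule.ok (2 * 6) EX RL ⟨7 :: [3, 8, 6, 3, 6], [], 28, true⟩) (lall (memL L) [3, 8, 6, 3, 6]) = true := by decide +kernel

theorem rot7_12 : T.rot 7 [4, 2, 7, 4, 2, 7, 2, 4] (sel (ones 22275) ip7 12) = true := by decide +kernel

theorem rot7_12r : band (Rule.ok (2 * 6) EX RL ⟨7 :: [4, 2, 7, 4, 2, 7, 2, 4], [2, 6], 4, true⟩) (lall (memL L) [4, 2, 7, 4, 2, 7, 2, 4]) = true := by decide +kernel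

theorem rot7_13 : T.rot 7 [4, 2, 7, 2, 4, 7, 4, 2] (sel (ones 22275) ip7 13) = true := by decide +kernel

theorem rot7_13r : band (Rule.ok (2 * 6) EX RL ⟨7 :: [4, 2, 7, 2, 4, 7, 4, 2], [12, 2, 6, 12], 4, true⟩) (lall (memL L) [4, 2, 7, 2, 4, 7, 4, 2]) = true := by decide +kernel

theorem rot7_14 : T.rot 7 [2, 4, 7, 4, 2, 7, 4, 2] (sel (ones 22275) ip7 14) = true := by decide +kernel

theorem rot7_14r : band (Rule.ok (2 * 6) EX RL ⟨7 :: [2, 4, 7, 4, 2, 7, 4, 2], [12], 4, true⟩) (lall (memL L) [2, 4, 7, 4, 2, 7, 4, 2]) = true := by decide +kernel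

theorem rot7_15 : T.rot 7 [4, 5, 8, 4, 7, 5, 4, 1] (sel (ones 22275) ip7 15) = true := by decide +kernel

theorem rot7_15r : band (Rule.ok (2 * 6) EX RL ⟨7 :: [4, 5, 8, 4, 7, 5, 4, 1], [8, 6, 0], 8, true⟩) (lall (memL L) [4, 5, 8, 4, 7, 5, 4, 1]) = true := by decide +kernel

theorem rot7_16 : T.rot 7 [5, 4, 1, 7, 4, 5, 8, 4] (sel (ones 22275) ip7 16) = true := by decide +kernel

theorem rot7_16r : band (Rule.ok (2 * 6) EX RL ⟨7 :: [5, 4, 1, 7, 4, 5, 8, 4], [12], 8, true⟩) (lall (memL L) [5, 4, 1, 7, 4, 5, 8, 4]) = true := by decide +kernel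

theorem rot7_17 : T.rot 7 [5, 4, 8, 1, 4, 5, 8, 4] (sel (ones 22275) ip7 17) = true := by decide +kernel

theorem rot7_17r : band (Rule.ok (2 * 6) EX RL ⟨7 :: [5, 4, 8, 1, 4, 5, 8, 4], [12, 6], 8, false⟩) (lall (memL L) [5, 4, 8, 1, 4, 5, 8, 4]) = true := by decide +kernel

theorem rot7_18 : T.rot 7 [4, 3, 8, 4, 3, 7, 4, 3, 4] (sel (ones 22275) ip7 18) = true := by decide +kernel

theorem rot7_18r : band (Rule.ok (2 * 6) EX RL ⟨7 :: [4, 3, 8, 4, 3, 7, 4, 3, 4], [4, 6], 5, true⟩) (lall (memL L) [4, 3, 8, 4, 3, 7, 4, 3, 4]) = true := by decide +kernel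

theorem rot7_19 : T.rot 7 [4, 3, 4, 7, 4, 3, 8, 4, 3] (sel (ones 22275) ip7 19) = true := by decide +kernel

theorem rot7_19r : band (Rule.ok (2 * 6) EX RL ⟨7 :: [4, 3, 4, 7, 4, 3, 8, 4, 3], [6, 12], 5, true⟩) (lall (memL L) [4, 3, 4, 7, 4, 3, 8, 4, 3]) = true := by decide +kernel

theorem rot7_20 : T.rot 7 [3, 4, 8, 4, 3, 4, 8, 3, 4] (sel (ones 22275) ip7 20) = true := by decide +kernel

theorem rot7_20r : band (Rule.ok (2 * 6) EX RL ⟨7 :: [3, 4, 8, 4, 3, 4, 8, 3, 4], [6, 12, 4, 6], 5, false⟩) (lall (memL L) [3, 4, 8, 4, 3, 4, 8, 3, 4]) = true := by decide +kernel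

theorem rot7_21 : T.rot 7 [4, 8, 3, 2, 4, 2, 1, 4, 3] (sel (ones 22275) ip7 21) = true := by decide +kernel

theorem rot7_21r : band (Rule.ok (2 * 6) EX RL ⟨7 :: [4, 8, 3, 2, 4, 2, 1, 4, 3], [0, 6, 4], 11, true⟩) (lall (memL L) [4, 8, 3, 2, 4, 2, 1, 4, 3]) = true := by decide +kernel

theorem rot7_22 : T.rot 7 [4, 8, 3, 4, 1, 2, 4, 2, 3] (sel (ones 22275) ip7 22) = true := by decide +kernel

theorem rot7_22r : band (Rule.ok (2 * 6) EX RL ⟨7 :: [4, 8, 3, 4, 1, 2, 4, 2, 3], [2, 6, 2, 4], 11, false⟩) (lall (memL L) [4, 8, 3, 4, 1, 2, 4, 2, 3]) = true := by decide +kernel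

theorem rot7_23 : T.rot 7 [2, 5, 4, 7, 2, 8, 4, 5, 1, 2] (sel (ones 22275) ip7 23) = true := by decide +kernel

theorem rot7_23r : band (Rule.ok (2 * 6) EX RL ⟨7 :: [2, 5, 4, 7, 2, 8, 4, 5, 1, 2], [8, 0, 2], 10, true⟩) (lall (memL L) [2, 5, 4, 7, 2, 8, 4, 5, 1, 2]) = true := by decide +kernel

theorem rot7_24 : T.rot 7 [2, 8, 4, 5, 1, 2, 7, 2, 5, 4] (sel (ones 22275) ip7 24) = true := by decide +kernel

theorem rot7_24r : band (Rule.ok (2 * 6) EX RL ⟨7 :: [2, 8, 4, 5, 1, 2, 7, 2, 5, 4], [6, 13, 2, 12], 10, true⟩) (lall (memL L) [2, 8, 4, 5, 1, 2, 7, 2, 5, 4]) = true := by decide +kernel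

theorem rot7_25 : T.rot 7 [2, 8, 4, 5, 2, 8, 2, 1, 5, 4] (sel (ones 22275) ip7 25) = true := by decide +kernel

theorem rot7_25r : band (Rule.ok (2 * 6) EX RL ⟨7 :: [2, 8, 4, 5, 2, 8, 2, 1, 5, 4], [6], 10, false⟩) (lall (memL L) [2, 8, 4, 5, 2, 8, 2, 1, 5, 4]) = true := by decide +kernel

theorem rot7_26 : T.rot 7 [3, 5, 2, 4, 5, 3, 8, 4, 2, 5, 3, 4, 2] (sel (ones 22275) ip7 26) = true := by decide +kernel

theorem rot7_26r : band (Rule.ok (2 * 6) EX RL ⟨7 :: [3, 5, 2, 4, 5, 3, 8, 4, 2, 5, 3, 4, 2], [4, 12], 13, true⟩) (lall (memL L) [3, 5, 2, 4, 5, 3, 8, 4, 2, 5, 3, 4, 2]) = true := by decide +kernel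

theorem rot7_27 : T.rot 7 [3, 5, 4, 2, 5, 3, 8, 2, 4, 3, 5, 2, 4] (sel (ones 22275) ip7 27) = true := by decide +kernel

theorem rot7_27r : band (Rule.ok (2 * 6) EX RL ⟨7 :: [3, 5, 4, 2, 5, 3, 8, 2, 4, 3, 5, 2, 4], [8, 2, 6, 8, 4, 12], 13, false⟩) (lall (memL L) [3, 5, 4, 2, 5, 3, 8, 2, 4, 3, 5, 2, 4]) = true := by decide +kernel

theorem rot7_28 : T.rot 7 [4, 6, 7, 4, 6, 7, 4, 6, 7, 4, 6, 7, 4, 6] (sel (ones 22275) ip7 28) = true := by decide +kernel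

theorem rot7_28r : band (Rule.ok (2 * 6) EX RL ⟨7 :: [4, 6, 7, 4, 6, 7, 4, 6, 7, 4, 6, 7, 4, 6], [], 40, false⟩) (lall (memL L) [4, 6, 7, 4, 6, 7, 4, 6, 7, 4, 6, 7, 4, 6]) = true := by decide +kernel

theorem rot7_29 : T.rot 7 [5, 6, 7, 5, 6, 7, 5, 6, 7, 5, 6, 7, 5, 6] (sel (ones 22275) ip7 29) = true := by decide +kernel

theorem rot7_29r : band (Rule.ok (2 * 6) EX RL ⟨7 :: [5, 6, 7, 5, 6, 7, 5, 6, 7, 5, 6, 7, 5, 6], [], 41, false⟩) (lall (memL L) [5, 6, 7, 5, 6, 7, 5, 6, 7, 5, 6, 7, 5, 6]) = true := by decide +kernel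

theorem ep0a : T.treePath [6, 4] (Nat.shiftLeft 1 3) 1 = true := by decide +kernel

theorem ep0b : T.treePath [6, 4, 6] (Nat.shiftLeft 1 10) 1 = true := by decide +kernel

theorem ep0c : band (lall (fun z => Nat.ble z 255) ([6, 4] ++ 7 :: [6, 4, 6])) (concl F IV 52698 0x800014000260c74a0000200000006 (encA ([6, 4] ++ 7 :: [6, 4, 6]) 0)) = true := by decide +kernel

theorem ep0d : band (Rule.ok (2 * 6) EX [] ⟨lapp [6, 4, 6] [6, 4, 6], [], 0, false⟩) (band (lall (memL L) [6, 4]) (lall (memL L) [6, 4, 6])) = true := by decide +kernel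

theorem ep1a : T.treePath [6, 5] (Nat.shiftLeft 1 4) 1 = true := by decide +kernel

theorem ep1b : T.treePath [6, 5, 6] (Nat.shiftLeft 1 15) 1 = true := by decide +kernel

theorem ep1c : band (lall (fun z => Nat.ble z 255) ([6, 5] ++ 7 :: [6, 5, 6])) (concl F IV 52698 0x80001c0003a0c94c0000300000006 (encA ([6, 5] ++ 7 :: [6, 5, 6]) 0)) = true := by decide +kernel

theorem ep1d : band (Rule.ok (2 * 6) EX [] ⟨lapp [6, 5, 6] [6, 5, 6], [], 0, false⟩) (band (lall (memL L) [6, 5]) (lall (memL L) [6, 5, 6])) = true := by decide +kernel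

theorem ep9a : T.treePath [6, 5, 4, 6, 8, 5, 4] (Nat.shiftLeft 1 918) 1 = true := by decide +kernel

theorem ep9b : T.treePath [6, 5, 4, 6, 8, 5, 4, 6] (Nat.shiftLeft 1 2613) 1 = true := by decide +kernel

theorem ep9c : band (lall (fun z => Nat.ble z 255) ([6, 5, 4, 6, 8, 5, 4] ++ 7 :: [6, 4, 5, 7, 6, 4, 5, 6])) (concl F IV 52698 0x2000070000d80014c001f2002a100392804edc32a8800724001500003e0000a40001a0000300000010 (encA ([6, 5, 4, 6, 8, 5, 4] ++ 7 :: [6, 4, 5, 7, 6, 4, 5, 6]) 0)) = true := by decide +kernel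

theorem ep9d : band (Rule.ok (2 * 6) EX [] ⟨lapp [6, 5, 4, 6, 8, 5, 4, 6] [6, 4, 5, 7, 6, 4, 5, 6], [], 0, false⟩) (band (lall (memL L) [6, 5, 4, 6, 8, 5, 4]) (lall (memL L) [6, 5, 4, 6, 8, 5, 4, 6])) = true := by decide +kernel

theorem cov7 : T.cover 7 [(sel (ones 22275) ip7 1), (sel (ones 22275) ip7 2), (sel (ones 22275) ip7 3), (sel (ones 22275) ip7 4), (sel (ones 22275) ip7 5), (sel (ones 22275) ip7 6), (sel (ones 22275) ip7 7), (sel (ones 22275) ip7 8), (sel (ones 22275) ip7 9), (sel (ones 22275) ip7 10), (sel (ones 22275) ip7 11), (sel (ones 22275) ip7 12), (sel (ones 22275) ip7 13), (sel (ones 22275) ip7 14), (sel (ones 22275) ip7 15), (sel (ones 22275) ip7 16), (sel (ones 22275) ip7 17), (sel (ones 22275) ip7 18), (sel (ones 22275) ip7 19), (sel (ones 22275) ip7 20), (sel (ones 22275) ip7 21), (sel (ones 22275) ip7 22), (sel (ones 22275) ip7 23), (sel (ones 22275)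 ip7 24), (sel (ones 22275) ip7 25), (sel (ones 22275) ip7 26), (sel (ones 22275) ip7 27), (sel (ones 22275) ip7 28), (sel (ones 22275) ip7 29), 1, (Nat.shiftLeft 1 3), (Nat.shiftLeft 1 4), (Nat.shiftLeft 1 918)] = true := by decide +kernel

theorem tl7 : T.treeLt 15 7 = true := by decide +kernel

theorem rot8_1 : T.rot 8 [7] (sel (ones 22275) ip8 1) = true := by decide +kernel

theorem rot8_1r : band (Rule.ok (2 * 6) EX RL ⟨8 :: [7], [], 42, false⟩) (lall (memL L) [7]) = true := by decide +kernel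

theorem rot8_2 : T.rot 8 [8, 8] (sel (ones 22275) ip8 2) = true := by decide +kernel

theorem rot8_2r : band (Rule.ok (2 * 6) EX RL ⟨8 :: [8, 8], [], 0, false⟩) (lall (memL L) [8, 8]) = true := by decide +kernel

theorem rot8_3 : T.rot 8 [1, 8, 1] (sel (ones 22275) ip8 3) = true := by decide +kernel

theorem rot8_3r : band (Rule.ok (2 * 6) EX RL ⟨8 :: [1, 8, 1], [13], 14, false⟩) (lall (memL L) [1, 8, 1]) = true := by decide +kernel

theorem rot8_4 : T.rot 8 [6, 8, 6] (sel (ones 22275) ip8 4) = true := by decide +kernel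

theorem rot8_4r : band (Rule.ok (2 * 6) EX RL ⟨8 :: [6, 8, 6], [13], 27, false⟩) (lall (memL L) [6, 8, 6]) = true := by decide +kernel

theorem rot8_5 : T.rot 8 [3, 8, 3, 8, 3] (sel (ones 22275) ip8 5) = true := by decide +kernel

theorem rot8_5r : band (Rule.ok (2 * 6) EX RL ⟨8 :: [3, 8, 3, 8, 3], [], 1, false⟩) (lall (memL L) [3, 8, 3, 8, 3]) = true := by decide +kernel

theorem rot8_6 : T.rot 8 [4, 8, 4, 8, 4] (sel (ones 22275) ip8 6) = true := by decide +kernel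

theorem rot8_6r : band (Rule.ok (2 * 6) EX RL ⟨8 :: [4, 8, 4, 8, 4], [], 2, false⟩) (lall (memL L) [4, 8, 4, 8, 4]) = true := by decide +kernel

theorem rot8_7 : T.rot 8 [2, 8, 2, 8, 2] (sel (ones 22275) ip8 7) = true := by decide +kernel

theorem rot8_7r : band (Rule.ok (2 * 6) EX RL ⟨8 :: [2, 8, 2, 8, 2], [], 6, false⟩) (lall (memL L) [2, 8, 2, 8, 2]) = true := by decide +kernel

theorem rot8_8 : T.rot 8 [5, 8, 5, 8, 5] (sel (ones 22275) ip8 8) = true := by decide +kernel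

theorem rot8_8r : band (Rule.ok (2 * 6) EX RL ⟨8 :: [5, 8, 5, 8, 5], [13], 23, false⟩) (lall (memL L) [5, 8, 5, 8, 5]) = true := by decide +kernel

theorem rot8_9 : T.rot 8 [4, 1, 8, 4, 1] (sel (ones 22275) ip8 9) = true := by decide +kernel

theorem rot8_9r : band (Rule.ok (2 * 6) EX RL ⟨8 :: [4, 1, 8, 4, 1], [13], 24, false⟩) (lall (memL L) [4, 1, 8, 4, 1]) = true := by decide +kernel

theorem rot8_10 : T.rot 8 [1, 5, 8, 1, 5] (sel (ones 22275) ip8 10) = true := by decide +kernel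

theorem rot8_10r : band (Rule.ok (2 * 6) EX RL ⟨8 :: [1, 5, 8, 1, 5], [8], 25, false⟩) (lall (memL L) [1, 5, 8, 1, 5]) = true := by decide +kernel

theorem rot8_11 : T.rot 8 [6, 3, 6, 7, 3] (sel (ones 22275) ip8 11) = true := by decide +kernel

theorem rot8_11r : band (Rule.ok (2 * 6) EX RL ⟨8 :: [6, 3, 6, 7, 3], [13], 28, false⟩) (lall (memL L) [6, 3, 6, 7, 3]) = true := by decide +kernel

theorem rot8_12 : T.rot 8 [2, 4, 8, 2, 4, 8, 4, 2] (sel (ones 22275) ip8 12) = true := by decide +kernel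

theorem rot8_12r : band (Rule.ok (2 * 6) EX RL ⟨8 :: [2, 4, 8, 2, 4, 8, 4, 2], [], 4, false⟩) (lall (memL L) [2, 4, 8, 2, 4, 8, 4, 2]) = true := by decide +kernel

theorem rot8_13 : T.rot 8 [2, 4, 8, 4, 2, 8, 2, 4] (sel (ones 22275) ip8 13) = true := by decide +kernel

theorem rot8_13r : band (Rule.ok (2 * 6) EX RL ⟨8 :: [2, 4, 8, 4, 2, 8, 2, 4], [12, 2, 6], 4, false⟩) (lall (memL L) [2, 4, 8, 4, 2, 8, 2, 4]) = true := by decide +kernel

theorem rot8_14 : T.rot 8 [4, 2, 8, 2, 4, 8, 2, 4] (sel (ones 22275) ip8 14) = true := by decide +kernel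

theorem rot8_14r : band (Rule.ok (2 * 6) EX RL ⟨8 :: [4, 2, 8, 2, 4, 8, 2, 4], [2, 6, 13], 4, false⟩) (lall (memL L) [4, 2, 8, 2, 4, 8, 2, 4]) = true := by decide +kernel

theorem rot8_15 : T.rot 8 [4, 7, 5, 4, 1, 7, 4, 5] (sel (ones 22275) ip8 15) = true := by decide +kernel

theorem rot8_15r : band (Rule.ok (2 * 6) EX RL ⟨8 :: [4, 7, 5, 4, 1, 7, 4, 5], [12, 6, 13], 8, true⟩) (lall (memL L) [4, 7, 5, 4, 1, 7, 4, 5]) = true := by decide +kernel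

theorem rot8_16 : T.rot 8 [4, 7, 5, 4, 8, 1, 4, 5] (sel (ones 22275) ip8 16) = true := by decide +kernel

theorem rot8_16r : band (Rule.ok (2 * 6) EX RL ⟨8 :: [4, 7, 5, 4, 8, 1, 4, 5], [], 8, false⟩) (lall (memL L) [4, 7, 5, 4, 8, 1, 4, 5]) = true := by decide +kernel

theorem rot8_17 : T.rot 8 [1, 4, 5, 8, 4, 7, 5, 4] (sel (ones 22275) ip8 17) = true := by decide +kernel

theorem rot8_17r : band (Rule.ok (2 * 6) EX RL ⟨8 :: [1, 4, 5, 8, 4, 7, 5, 4], [8, 6, 0, 13], 8, false⟩) (lall (memL L) [1, 4, 5, 8, 4, 7, 5, 4]) = true := by decide +kernel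

theorem rot8_18 : T.rot 8 [4, 3, 7, 4, 3, 4, 7, 4, 3] (sel (ones 22275) ip8 18) = true := by decide +kernel

theorem rot8_18r : band (Rule.ok (2 * 6) EX RL ⟨8 :: [4, 3, 7, 4, 3, 4, 7, 4, 3], [6, 12, 4, 6, 13], 5, true⟩) (lall (memL L) [4, 3, 7, 4, 3, 4, 7, 4, 3]) = true := by decide +kernel

theorem rot8_19 : T.rot 8 [3, 4, 7, 3, 4, 8, 4, 3, 4] (sel (ones 22275) ip8 19) = true := by decide +kernel

theorem rot8_19r : band (Rule.ok (2 * 6) EX RL ⟨8 :: [3, 4, 7, 3, 4, 8, 4, 3, 4], [6], 5, false⟩) (lall (memL L) [3, 4, 7, 3, 4, 8, 4, 3, 4]) = true := by decide +kernel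

theorem rot8_20 : T.rot 8 [4, 3, 4, 8, 3, 4, 7, 3, 4] (sel (ones 22275) ip8 20) = true := by decide +kernel

theorem rot8_20r : band (Rule.ok (2 * 6) EX RL ⟨8 :: [4, 3, 4, 8, 3, 4, 7, 3, 4], [4, 6, 13], 5, false⟩) (lall (memL L) [4, 3, 4, 8, 3, 4, 7, 3, 4]) = true := by decide +kernel

theorem rot8_21 : T.rot 8 [3, 2, 4, 2, 1, 4, 3, 7, 4] (sel (ones 22275) ip8 21) = true := by decide +kernel

theorem rot8_21r : band (Rule.ok (2 * 6) EX RL ⟨8 :: [3, 2, 4, 2, 1, 4, 3, 7, 4], [2, 6, 2, 4, 13], 11, true⟩) (lall (memL L) [3, 2, 4, 2, 1, 4, 3, 7, 4]) = true := by decide +kernel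

theorem rot8_22 : T.rot 8 [3, 4, 1, 2, 4, 2, 3, 7, 4] (sel (ones 22275) ip8 22) = true := by decide +kernel

theorem rot8_22r : band (Rule.ok (2 * 6) EX RL ⟨8 :: [3, 4, 1, 2, 4, 2, 3, 7, 4], [0, 6, 4, 13], 11, false⟩) (lall (memL L) [3, 4, 1, 2, 4, 2, 3, 7, 4]) = true := by decide +kernel

theorem rot8_23 : T.rot 8 [4, 5, 1, 2, 7, 2, 5, 4, 7, 2] (sel (ones 22275) ip8 23) = true := by decide +kernel

theorem rot8_23r : band (Rule.ok (2 * 6) EX RL ⟨8 :: [4, 5, 1, 2, 7, 2, 5, 4, 7, 2], [6, 13], 10, true⟩) (lall (memL L) [4, 5, 1, 2, 7, 2, 5, 4, 7, 2]) = true := by decide +kernel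

theorem rot8_24 : T.rot 8 [4, 5, 2, 8, 2, 1, 5, 4, 7, 2] (sel (ones 22275) ip8 24) = true := by decide +kernel

theorem rot8_24r : band (Rule.ok (2 * 6) EX RL ⟨8 :: [4, 5, 2, 8, 2, 1, 5, 4, 7, 2], [6, 13, 2], 10, false⟩) (lall (memL L) [4, 5, 2, 8, 2, 1, 5, 4, 7, 2]) = true := by decide +kernel

theorem rot8_25 : T.rot 8 [2, 1, 5, 4, 7, 2, 8, 4, 5, 2] (sel (ones 22275) ip8 25) = true := by decide +kernel

theorem rot8_25r : band (Rule.ok (2 * 6) EX RL ⟨8 :: [2, 1, 5, 4, 7, 2, 8, 4, 5, 2], [8, 0, 2, 13], 10, false⟩) (lall (memL L) [2, 1, 5, 4, 7, 2, 8, 4, 5, 2]) = true := by decide +kernel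

theorem rot8_26 : T.rot 8 [4, 2, 5, 3, 4, 2, 7, 3, 5, 2, 4, 5, 3] (sel (ones 22275) ip8 26) = true := by decide +kernel

theorem rot8_26r : band (Rule.ok (2 * 6) EX RL ⟨8 :: [4, 2, 5, 3, 4, 2, 7, 3, 5, 2, 4, 5, 3], [8, 2, 6, 8, 4], 13, true⟩) (lall (memL L) [4, 2, 5, 3, 4, 2, 7, 3, 5, 2, 4, 5, 3]) = true := by decide +kernel

theorem rot8_27 : T.rot 8 [2, 4, 3, 5, 2, 4, 7, 3, 5, 4, 2, 5, 3] (sel (ones 22275) ip8 27) = true := by decide +kernel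

theorem rot8_27r : band (Rule.ok (2 * 6) EX RL ⟨8 :: [2, 4, 3, 5, 2, 4, 7, 3, 5, 4, 2, 5, 3], [4], 13, false⟩) (lall (memL L) [2, 4, 3, 5, 2, 4, 7, 3, 5, 4, 2, 5, 3]) = true := by decide +kernel

theorem rot8_28 : T.rot 8 [6, 4, 8, 6, 4, 8, 6, 4, 8, 6, 4, 8, 6, 4] (sel (ones 22275) ip8 28) = true := by decide +kernel

theorem rot8_28r : band (Rule.ok (2 * 6) EX RL ⟨8 :: [6, 4, 8, 6, 4, 8, 6, 4, 8, 6, 4, 8, 6, 4], [6], 35, false⟩) (lall (memL L) [6, 4, 8, 6, 4, 8, 6, 4, 8, 6, 4, 8, 6, 4]) = true := by decide +kernel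

theorem rot8_29 : T.rot 8 [6, 5, 8, 6, 5, 8, 6, 5, 8, 6, 5, 8, 6, 5] (sel (ones 22275) ip8 29) = true := by decide +kernel

theorem rot8_29r : band (Rule.ok (2 * 6) EX RL ⟨8 :: [6, 5, 8, 6, 5, 8, 6, 5, 8, 6, 5, 8, 6, 5], [8], 39, false⟩) (lall (memL L) [6, 5, 8, 6, 5, 8, 6, 5, 8, 6, 5, 8, 6, 5]) = true := by decide +kernel

theorem cov8 : T.cover 8 [(sel (ones 22275) ip8 1), (sel (ones 22275) ip8 2), (sel (ones 22275) ip8 3), (sel (ones 22275) ip8 4), (sel (ones 22275) ip8 5), (sel (ones 22275) ip8 6), (sel (ones 22275) ip8 7), (sel (ones 22275) ip8 8), (sel (ones 22275) ip8 9), (sel (ones 22275) ip8 10), (sel (ones 22275) ip8 11), (sel (ones 22275) ip8 12), (sel (ones 22275) ip8 13), (sel (ones 22275) ip8 14), (sel (ones 22275) ip8 15), (sel (ones 22275) ip8 16), (sel (ones 22275) ip8 17), (sel (ones 22275) ip8 18), (sel (ones 22275) ip8 19), (sel (ones 22275) ip8 20), (sel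 (ones 22275) ip8 21), (sel (ones 22275) ip8 22), (sel (ones 22275) ip8 23), (sel (ones 22275) ip8 24), (sel (ones 22275) ip8 25), (sel (ones 22275) ip8 26), (sel (ones 22275) ip8 27), (sel (ones 22275) ip8 28), (sel (ones 22275) ip8 29)] = true := by decide +kernel

theorem tl8 : T.treeLt 15 8 = true := by decide +kernel

end Cfsg.Agent.Spor.McA
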