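import Cfsg.Agent.Spor.Cert
import Cfsg.Agent.Spor.McA.C0
import Cfsg.Agent.Spor.McA.C1

set_option autoImplicit false
set_option maxRecDepth 100000000
set_option Elab.async false
set_option linter.unusedSectionVars false

namespace Cfsg.Agent.Spor.McA

theorem hT : T.Ok 15 := T.ok_of 15 (show AllP (fun n => Net.okb 15 n = true) [n0, n1, n2, n3, n4, n5, n6] from AllP.cons ok0 (AllP.cons ok1 (AllP.cons ok2 (AllP.cons ok3 (AllP.cons ok4 (AllP.cons ok5 (AllP.cons ok6 (AllP.nil))))))))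

noncomputable def fP : ℕ → Equiv.Perm ℕ := T.fP gs

theorem hsq : ∀ j < 6, j < 7 → T.fP gs j * T.fP gs j = 1 :=
  Tab.sq (show AllP (fun z => evA T.τ [z, z] = 1) [1, 2, 3, 4, 5, 6] from AllP.cons (hT.one rel0) (AllP.cons (hT.one rel1) (AllP.cons (hT.one rel2) (AllP.cons (hT.one rel3) (AllP.cons (hT.one rel4) (AllP.cons (hT.one rel5) (AllP.nil))))))) 7 rfl

theorem hiv : IvOk (2 * 6) (atm 7 (T.fP gs)) := ivOk_atm hsq

theorem pz1 : PZ T (atm 7 (T.fP gs)) EX 1 := PZ.of_atom (y := 2 * 0) (by decide +kernel) (atm_two_mul _ (by decide))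
theorem pz2 : PZ T (atm 7 (T.fP gs)) EX 2 := PZ.of_atom (y := 2 * 1) (by decide +kernel) (atm_two_mul _ (by decide))
theorem pz3 : PZ T (atm 7 (T.fP gs)) EX 3 := PZ.of_atom (y := 2 * 2) (by decide +kernel) (atm_two_mul _ (by decide))
theorem pz4 : PZ T (atm 7 (T.fP gs)) EX 4 := PZ.of_atom (y := 2 * 3) (by decide +kernel) (atm_two_mul _ (by decide))
theorem pz5 : PZ T (atm 7 (T.fP gs)) EX 5 := PZ.of_atom (y := 2 * 4) (by decide +kernel) (atm_two_mul _ (by decide))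
theorem pz6 : PZ T (atm 7 (T.fP gs)) EX 6 := PZ.of_atom (y := 2 * 5) (by decide +kernel) (atm_two_mul _ (by decide))
theorem pz7 : PZ T (atm 7 (T.fP gs)) EX 7 := PZ.of_atom (y := 2 * 6) (by decide +kernel) (atm_two_mul _ (by decide))
theorem pz8 : PZ T (atm 7 (T.fP gs)) EX 8 := PZ.of_inv hiv pz7 (by decide +kernel)
theorem hPZ : AllP (PZ T (atm 7 (T.fP gs)) EX) L :=
  show AllP (PZ T (atm 7 (T.fP gs)) EX) [1, 2, 3, 4, 5, 6, 7, 8] from AllP.cons pz1 (AllP.cons pz2 (AllP.cons pz3 (AllP.cons pz4 (AllP.cons pz5 (AllP.cons pz6 (AllP.cons pz7 (AllP.cons pz8 (AllP.nil))))))))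

theorem hrel : ∀ l ∈ RL, ev (atm 7 (T.fP gs)) l = 1 :=
  relAll_sound hiv (W := [[7, 7, 7], [3, 7, 3, 7, 3, 7], [4, 7, 4, 7, 4, 7], [3, 2, 4, 3, 4, 3, 2, 4], [2, 4, 7, 4, 2, 7, 4, 2, 7], [3, 4, 7, 4, 3, 8, 4, 3, 7, 4], [2, 7, 2, 7, 2, 7], [1, 2, 1, 2], [5, 4, 1, 7, 4, 5, 8, 4, 7], [5, 2, 4, 2, 4, 5, 3, 2, 3, 2], [5, 1, 2, 7, 2, 5, 4, 7, 2, 8, 4], [1, 4, 3, 7, 4, 8, 3, 2, 4, 2], [5, 2, 5, 2, 5, 2], [5, 2, 4, 5, 3, 8, 4, 2, 5, 3, 4, 2, 7, 3], [7, 1, 7, 1], [3, 2, 3, 2, 3, 2, 3, 2], [4, 2, 4, 2, 4, 2, 4, 2], [1, 3, 1, 3], [4, 3, 4, 3, 4, 3], [5, 3, 5, 3, 5, 3, 5, 3], [1, 4, 1, 4, 1, 4, 1, 4], [5, 4, 5, 4, 5, 4], [1, 5, 1, 5, 1, 5, 1, 5], [7, 5, 7, 5, 7, 5], [7, 1, 4, 7, 1, 4], [1, 7, 5, 1, 7, 5], [2, 6, 2, 6], [7, 6, 7, 6], [7, 3, 8, 6, 3, 6], [6, 1, 6, 1, 6, 1], [6, 4, 6, 4, 6, 4, 6, 4, 6, 4], [6, 1, 4, 1, 6, 1, 4, 1, 6, 1, 4, 1, 6, 1, 4, 1, 6, 1, 4, 1],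 [6, 5, 6, 5, 6, 5, 6, 5, 6, 5], [6, 5, 1, 6, 5, 1, 6, 5, 1, 6, 5, 1, 6, 5, 1], [6, 4, 2, 6, 4, 2, 6, 4, 2, 6, 4, 2, 6, 4, 2], [6, 7, 4, 6, 7, 4, 6, 7, 4, 6, 7, 4, 6, 7, 4], [6, 1, 5, 6, 1, 5, 6, 1, 5, 6, 1, 5, 6, 1, 5], [6, 5, 2, 6, 5, 2, 6, 5, 2, 6, 5, 2, 6, 5, 2], [6, 5, 3, 6, 5, 3, 6, 5, 3, 6, 5, 3, 6, 5, 3], [6, 7, 5, 6, 7, 5, 6, 7, 5, 6, 7, 5, 6, 7, 5], [6, 4, 8, 6, 4, 8, 6, 4, 8, 6, 4, 8, 6, 4, 8], [6, 5, 8, 6, 5, 8, 6, 5, 8, 6, 5, 8, 6, 5, 8]]) (rules := [⟨[7, 7, 7], [], 0, true⟩, ⟨[3, 7, 3, 7, 3, 7], [], 1, true⟩, ⟨[4, 7, 4, 7, 4, 7], [], 2, true⟩, ⟨[3, 2, 4, 3, 4, 3, 2, 4], [], 3, true⟩, ⟨[2, 4, 7, 4, 2, 7, 4, 2, 7], [], 4, true⟩, ⟨[3, 4, 7, 4, 3, 8, 4, 3, 7, 4], [], 5, true⟩, ⟨[2, 7, 2, 7, 2, 7], [], 6, true⟩, ⟨[1, 2, 1, 2], [], 7, true⟩, ⟨[5, 4, 1, 7, 4, 5, 8, 4, 7], [], 8, true⟩, ⟨[5, 2, 4, 2, 4, 5, 3, 2, 3, 2], [], 9, true⟩, ⟨[5, 1, 2, 7, 2,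 5, 4, 7, 2, 8, 4], [], 10, true⟩, ⟨[1, 4, 3, 7, 4, 8, 3, 2, 4, 2], [], 11, true⟩, ⟨[5, 2, 5, 2, 5, 2], [], 12, true⟩, ⟨[5, 2, 4, 5, 3, 8, 4, 2, 5, 3, 4, 2, 7, 3], [], 13, true⟩, ⟨[7, 1, 7, 1], [], 14, true⟩, ⟨[3, 2, 3, 2, 3, 2, 3, 2], [], 15, true⟩, ⟨[4, 2, 4, 2, 4, 2, 4, 2], [], 16, true⟩, ⟨[1, 3, 1, 3], [], 17, true⟩, ⟨[4, 3, 4, 3, 4, 3], [], 18, true⟩, ⟨[5, 3, 5, 3, 5, 3, 5, 3], [], 19, true⟩, ⟨[1, 4, 1, 4, 1, 4, 1, 4], [], 20, true⟩, ⟨[5, 4, 5, 4, 5, 4], [], 21, true⟩, ⟨[1, 5, 1, 5, 1, 5, 1, 5], [], 22, true⟩, ⟨[7, 5, 7, 5, 7, 5], [], 23, true⟩, ⟨[7, 1, 4, 7, 1, 4], [], 24, true⟩, ⟨[1, 7, 5, 1, 7, 5], [], 25, true⟩, ⟨[2, 6, 2, 6], [], 26, true⟩, ⟨[7, 6, 7, 6], [], 27, true⟩, ⟨[7, 3, 8, 6, 3, 6], [], 28, true⟩, ⟨[6, 1, 6, 1, 6, 1], [], 29, true⟩, ⟨[6, 4, 6, 4, 6, 4, 6, 4, 6, 4], [], 30, true⟩, ⟨[6, 1, 4, 1, 6, 1, 4, 1, 6, 1, 4, 1, 6, 1, 4, 1, 6, 1, 4,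 1], [], 31, true⟩, ⟨[6, 5, 6, 5, 6, 5, 6, 5, 6, 5], [], 32, true⟩, ⟨[6, 5, 1, 6, 5, 1, 6, 5, 1, 6, 5, 1, 6, 5, 1], [], 33, true⟩, ⟨[6, 4, 2, 6, 4, 2, 6, 4, 2, 6, 4, 2, 6, 4, 2], [], 34, true⟩, ⟨[6, 7, 4, 6, 7, 4, 6, 7, 4, 6, 7, 4, 6, 7, 4], [], 35, true⟩, ⟨[6, 1, 5, 6, 1, 5, 6, 1, 5, 6, 1, 5, 6, 1, 5], [], 36, true⟩, ⟨[6, 5, 2, 6, 5, 2, 6, 5, 2, 6, 5, 2, 6, 5, 2], [], 37, true⟩, ⟨[6, 5, 3, 6, 5, 3, 6, 5, 3, 6, 5, 3, 6, 5, 3], [], 38, true⟩, ⟨[6, 7, 5, 6, 7, 5, 6, 7, 5, 6, 7, 5, 6, 7, 5], [], 39, true⟩, ⟨[6, 4, 8, 6, 4, 8, 6, 4, 8, 6, 4, 8, 6, 4, 8], [], 40, true⟩, ⟨[6, 5, 8, 6, 5, 8, 6, 5, 8, 6, 5, 8, 6, 5, 8], [], 41, true⟩]) hPZ (AllP.cons (hT.one rel6) (AllP.cons (hT.one rel7) (AllP.cons (hT.one rel8) (AllP.cons (hT.one rel9) (AllP.cons (hT.one rel10) (AllP.cons (hT.one rel11) (AllP.cons (hT.one rel12) (AllP.cons (hT.one rel13) (AllP.cons (hT.one rel14)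 (AllP.cons (hT.one rel15) (AllP.cons (hT.one rel16) (AllP.cons (hT.one rel17) (AllP.cons (hT.one rel18) (AllP.cons (hT.one rel19) (AllP.cons (hT.one rel20) (AllP.cons (hT.one rel21) (AllP.cons (hT.one rel22) (AllP.cons (hT.one rel23) (AllP.cons (hT.one rel24) (AllP.cons (hT.one rel25) (AllP.cons (hT.one rel26) (AllP.cons (hT.one rel27) (AllP.cons (hT.one rel28) (AllP.cons (hT.one rel29) (AllP.cons (hT.one rel30) (AllP.cons (hT.one rel31) (AllP.cons (hT.one rel32) (AllP.cons (hT.one rel33) (AllP.cons (hT.one rel34) (AllP.cons (hT.one rel35) (AllP.cons (hT.one rel36) (AllP.cons (hT.one rel37) (AllP.cons (hT.one rel38) (AllP.cons (hT.one rel39) (AllP.cons (hT.one rel40) (AllP.cons (hT.one rel41) (AllP.cons (hT.one rel42) (AllP.cons (hT.one rel43) (AllP.cons (hT.one rel44) (AllP.cons (hT.one rel45) (AllP.cons (hT.one rel46) (AllP.cons (hT.one rel47) (AllP.nil)))))))))))))))))))))))))))))))))))))))))))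 (by decide +kernel)

theorem hst : StepsOk F IV RT base 20785 52698 := (StepsOk.trans (StepsOk.trans (StepsOk.trans (StepsOk.trans (StepsOk.trans (StepsOk.trans (StepsOk.trans (StepsOk.trans (StepsOk.trans (StepsOk.trans (StepsOk.trans (StepsOk.trans (StepsOk.trans (StepsOk.trans (StepsOk.trans (StepsOk.trans (StepsOk.trans (StepsOk.trans (StepsOk.trans (StepsOk.trans (StepsOk.trans (StepsOk.trans (StepsOk.trans (StepsOk.trans (StepsOk.trans (StepsOk.trans (StepsOk.trans (steps_sound' st0) (steps_sound' st1)) (steps_sound' st2)) (steps_sound' st3)) (steps_sound' st4)) (steps_sound' st5)) (steps_sound' st6)) (steps_sound' st7)) (steps_sound' st8)) (steps_sound' st9)) (steps_sound' st10)) (steps_sound' st11)) (steps_sound' st12)) (steps_sound' st13)) (steps_sound' st14)) (steps_sound' st15)) (steps_sound' st16)) (steps_sound' st17)) (steps_sound' st18)) (steps_sound'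 st19)) (steps_sound' st20)) (steps_sound' st21)) (steps_sound' st22)) (steps_sound' st23)) (steps_sound' st24)) (steps_sound' st25)) (steps_sound' st26)) (steps_sound' st27))

section
variable {G : Type} [Group G] {a : ℕ → G} (hi : IvOk (2 * 6) a) (hR : ∀ r ∈ RL, ev a r = 1)
  {H : Subgroup G} (hb : ∀ z ∈ base, letV a EX z ∈ H)
include hi hR hb

theorem let1 : LetOk H (letV a EX) T L 1 :=
  LetOk.of hT tl1 cov1 (AllP.cons (Just.rot hT hi hR rot1_1 rot1_1r) (AllP.cons (Just.rot hT hi hR rot1_2 rot1_2r) (AllP.cons (Just.rot hT hi hR rot1_3 rot1_3r) (AllP.cons (Just.rot hT hi hR rot1_4 rot1_4r) (AllP.cons (Just.rot hT hi hR rot1_5 rot1_5r) (AllP.cons (Just.rot hT hi hR rot1_6 rot1_6r) (AllP.cons (Just.rot hT hi hR rot1_7 rot1_7r) (AllP.cons (Just.rot hT hi hR rot1_8 rot1_8r) (AllP.cons (Just.rot hT hi hR rot1_9 rot1_9r) (AllP.cons (Just.rot hT hi hR rot1_10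 rot1_10r) (AllP.cons (Just.rot hT hi hR rot1_11 rot1_11r) (AllP.cons (Just.rot hT hi hR rot1_12 rot1_12r) (AllP.cons (Just.rot hT hi hR rot1_13 rot1_13r) (AllP.cons (Just.rot hT hi hR rot1_14 rot1_14r) (AllP.cons (Just.rot hT hi hR rot1_15 rot1_15r) (AllP.cons (Just.rot hT hi hR rot1_16 rot1_16r) (AllP.cons (Just.rot hT hi hR rot1_17 rot1_17r) (AllP.cons (Just.rot hT hi hR rot1_18 rot1_18r) (AllP.cons (Just.rot hT hi hR rot1_19 rot1_19r) (AllP.cons (Just.rot hT hi hR rot1_20 rot1_20r) (AllP.cons (Just.rot hT hi hR rot1_21 rot1_21r) (AllP.cons (Just.rot hT hi hR rot1_22 rot1_22r) (AllP.cons (Just.base (hb 1 (by decide))) (AllP.cons (Just.epi hT hi ep4a ep4b (seq_mem hi hR rfl hivk hrt H hb hdefs hst ep4c) ep4d) (AllP.nil)))))))))))))))))))))))))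
theorem let2 : LetOk H (letV a EX) T L 2 :=
  LetOk.of hT tl2 cov2 (AllP.cons (Just.rot hT hi hR rot2_1 rot2_1r) (AllP.cons (Just.rot hT hi hR rot2_2 rot2_2r) (AllP.cons (Just.rot hT hi hR rot2_3 rot2_3r) (AllP.cons (Just.rot hT hi hR rot2_4 rot2_4r) (AllP.cons (Just.rot hT hi hR rot2_5 rot2_5r) (AllP.cons (Just.rot hT hi hR rot2_6 rot2_6r) (AllP.cons (Just.rot hT hi hR rot2_7 rot2_7r) (AllP.cons (Just.rot hT hi hR rot2_8 rot2_8r) (AllP.cons (Just.rot hT hi hR rot2_9 rot2_9r) (AllP.cons (Just.rot hT hi hR rot2_10 rot2_10r) (AllP.cons (Just.rot hT hi hR rot2_11 rot2_11r) (AllP.cons (Just.rot hT hi hR rot2_12 rot2_12r) (AllP.cons (Just.rot hT hi hR rot2_13 rot2_13r) (AllP.cons (Just.rot hT hi hR rot2_14 rot2_14r) (AllP.cons (Just.rot hT hi hR rot2_15 rot2_15r) (AllP.cons (Just.rot hT hi hR rot2_16 rot2_16r) (AllP.cons (Just.rot hT hi hR rot2_17 rot2_17r)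 (AllP.cons (Just.rot hT hi hR rot2_18 rot2_18r) (AllP.cons (Just.rot hT hi hR rot2_19 rot2_19r) (AllP.cons (Just.rot hT hi hR rot2_20 rot2_20r) (AllP.cons (Just.rot hT hi hR rot2_21 rot2_21r) (AllP.cons (Just.rot hT hi hR rot2_22 rot2_22r) (AllP.cons (Just.rot hT hi hR rot2_23 rot2_23r) (AllP.cons (Just.rot hT hi hR rot2_24 rot2_24r) (AllP.cons (Just.rot hT hi hR rot2_25 rot2_25r) (AllP.cons (Just.rot hT hi hR rot2_26 rot2_26r) (AllP.cons (Just.rot hT hi hR rot2_27 rot2_27r) (AllP.cons (Just.rot hT hi hR rot2_28 rot2_28r) (AllP.cons (Just.rot hT hi hR rot2_29 rot2_29r) (AllP.cons (Just.rot hT hi hR rot2_30 rot2_30r) (AllP.cons (Just.rot hT hi hR rot2_31 rot2_31r) (AllP.cons (Just.rot hT hi hR rot2_32 rot2_32r) (AllP.cons (Just.rot hT hi hR rot2_33 rot2_33r) (AllP.cons (Just.rot hT hi hR rot2_34 rot2_34r) (AllP.cons (Just.rot hT hi hR rot2_35 rot2_35r) (AllP.cons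 (Just.rot hT hi hR rot2_36 rot2_36r) (AllP.cons (Just.rot hT hi hR rot2_37 rot2_37r) (AllP.cons (Just.rot hT hi hR rot2_38 rot2_38r) (AllP.cons (Just.rot hT hi hR rot2_39 rot2_39r) (AllP.cons (Just.rot hT hi hR rot2_40 rot2_40r) (AllP.cons (Just.rot hT hi hR rot2_41 rot2_41r) (AllP.cons (Just.rot hT hi hR rot2_42 rot2_42r) (AllP.cons (Just.rot hT hi hR rot2_43 rot2_43r) (AllP.cons (Just.rot hT hi hR rot2_44 rot2_44r) (AllP.cons (Just.rot hT hi hR rot2_45 rot2_45r) (AllP.cons (Just.rot hT hi hR rot2_46 rot2_46r) (AllP.cons (Just.base (hb 2 (by decide))) (AllP.nil))))))))))))))))))))))))))))))))))))))))))))))))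
theorem let3 : LetOk H (letV a EX) T L 3 :=
  LetOk.of hT tl3 cov3 (AllP.cons (Just.rot hT hi hR rot3_1 rot3_1r) (AllP.cons (Just.rot hT hi hR rot3_2 rot3_2r) (AllP.cons (Just.rot hT hi hR rot3_3 rot3_3r) (AllP.cons (Just.rot hT hi hR rot3_4 rot3_4r) (AllP.cons (Just.rot hT hi hR rot3_5 rot3_5r) (AllP.cons (Just.rot hT hi hR rot3_6 rot3_6r) (AllP.cons (Just.rot hT hi hR rot3_7 rot3_7r) (AllP.cons (Just.rot hT hi hR rot3_8 rot3_8r) (AllP.cons (Just.rot hT hi hR rot3_9 rot3_9r) (AllP.cons (Just.rot hT hi hR rot3_10 rot3_10r) (AllP.cons (Just.rot hT hi hR rot3_11 rot3_11r) (AllP.cons (Just.rot hT hi hR rot3_12 rot3_12r) (AllP.cons (Just.rot hT hi hR rot3_13 rot3_13r) (AllP.cons (Just.rot hT hi hR rot3_14 rot3_14r) (AllP.cons (Just.rot hT hi hR rot3_15 rot3_15r) (AllP.cons (Just.rot hT hi hR rot3_16 rot3_16r) (AllP.cons (Just.rot hT hi hR rot3_17 rot3_17r)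 (AllP.cons (Just.rot hT hi hR rot3_18 rot3_18r) (AllP.cons (Just.rot hT hi hR rot3_19 rot3_19r) (AllP.cons (Just.rot hT hi hR rot3_20 rot3_20r) (AllP.cons (Just.rot hT hi hR rot3_21 rot3_21r) (AllP.cons (Just.rot hT hi hR rot3_22 rot3_22r) (AllP.cons (Just.rot hT hi hR rot3_23 rot3_23r) (AllP.cons (Just.rot hT hi hR rot3_24 rot3_24r) (AllP.cons (Just.rot hT hi hR rot3_25 rot3_25r) (AllP.cons (Just.rot hT hi hR rot3_26 rot3_26r) (AllP.cons (Just.rot hT hi hR rot3_27 rot3_27r) (AllP.cons (Just.rot hT hi hR rot3_28 rot3_28r) (AllP.cons (Just.rot hT hi hR rot3_29 rot3_29r) (AllP.cons (Just.rot hT hi hR rot3_30 rot3_30r) (AllP.cons (Just.rot hT hi hR rot3_31 rot3_31r) (AllP.cons (Just.rot hT hi hR rot3_32 rot3_32r) (AllP.cons (Just.rot hT hi hR rot3_33 rot3_33r) (AllP.cons (Just.rot hT hi hR rot3_34 rot3_34r) (AllP.cons (Just.rot hT hi hR rot3_35 rot3_35r) (AllP.cons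 (Just.rot hT hi hR rot3_36 rot3_36r) (AllP.cons (Just.rot hT hi hR rot3_37 rot3_37r) (AllP.cons (Just.base (hb 3 (by decide))) (AllP.cons (Just.epi hT hi ep3a ep3b (seq_mem hi hR rfl hivk hrt H hb hdefs hst ep3c) ep3d) (AllP.cons (Just.epi hT hi ep6a ep6b (seq_mem hi hR rfl hivk hrt H hb hdefs hst ep6c) ep6d) (AllP.nil)))))))))))))))))))))))))))))))))))))))))
theorem let4 : LetOk H (letV a EX) T L 4 :=
  LetOk.of hT tl4 cov4 (AllP.cons (Just.rot hT hi hR rot4_1 rot4_1r) (AllP.cons (Just.rot hT hi hR rot4_2 rot4_2r) (AllP.cons (Just.rot hT hi hR rot4_3 rot4_3r) (AllP.cons (Just.rot hT hi hR rot4_4 rot4_4r) (AllP.cons (Just.rot hT hi hR rot4_5 rot4_5r) (AllP.cons (Just.rot hT hi hR rot4_6 rot4_6r) (AllP.cons (Just.rot hT hi hR rot4_7 rot4_7r) (AllP.cons (Just.rot hT hi hR rot4_8 rot4_8r) (AllP.cons (Just.rot hT hi hR rot4_9 rot4_9r) (AllP.cons (Just.rot hT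 hi hR rot4_10 rot4_10r) (AllP.cons (Just.rot hT hi hR rot4_11 rot4_11r) (AllP.cons (Just.rot hT hi hR rot4_12 rot4_12r) (AllP.cons (Just.rot hT hi hR rot4_13 rot4_13r) (AllP.cons (Just.rot hT hi hR rot4_14 rot4_14r) (AllP.cons (Just.rot hT hi hR rot4_15 rot4_15r) (AllP.cons (Just.rot hT hi hR rot4_16 rot4_16r) (AllP.cons (Just.rot hT hi hR rot4_17 rot4_17r) (AllP.cons (Just.rot hT hi hR rot4_18 rot4_18r) (AllP.cons (Just.rot hT hi hR rot4_19 rot4_19r) (AllP.cons (Just.rot hT hi hR rot4_20 rot4_20r) (AllP.cons (Just.rot hT hi hR rot4_21 rot4_21r) (AllP.cons (Just.rot hT hi hR rot4_22 rot4_22r) (AllP.cons (Just.rot hT hi hR rot4_23 rot4_23r) (AllP.cons (Just.rot hT hi hR rot4_24 rot4_24r) (AllP.cons (Just.rot hT hi hR rot4_25 rot4_25r) (AllP.cons (Just.rot hT hi hR rot4_26 rot4_26r) (AllP.cons (Just.rot hT hi hR rot4_27 rot4_27r) (AllP.cons (Just.rot hT hi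 hR rot4_28 rot4_28r) (AllP.cons (Just.rot hT hi hR rot4_29 rot4_29r) (AllP.cons (Just.rot hT hi hR rot4_30 rot4_30r) (AllP.cons (Just.rot hT hi hR rot4_31 rot4_31r) (AllP.cons (Just.rot hT hi hR rot4_32 rot4_32r) (AllP.cons (Just.rot hT hi hR rot4_33 rot4_33r) (AllP.cons (Just.rot hT hi hR rot4_34 rot4_34r) (AllP.cons (Just.rot hT hi hR rot4_35 rot4_35r) (AllP.cons (Just.rot hT hi hR rot4_36 rot4_36r) (AllP.cons (Just.rot hT hi hR rot4_37 rot4_37r) (AllP.cons (Just.rot hT hi hR rot4_38 rot4_38r) (AllP.cons (Just.rot hT hi hR rot4_39 rot4_39r) (AllP.cons (Just.rot hT hi hR rot4_40 rot4_40r) (AllP.cons (Just.rot hT hi hR rot4_41 rot4_41r) (AllP.cons (Just.rot hT hi hR rot4_42 rot4_42r) (AllP.cons (Just.rot hT hi hR rot4_43 rot4_43r) (AllP.cons (Just.rot hT hi hR rot4_44 rot4_44r) (AllP.cons (Just.rot hT hi hR rot4_45 rot4_45r) (AllP.cons (Just.rot hT hi hR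 rot4_46 rot4_46r) (AllP.cons (Just.rot hT hi hR rot4_47 rot4_47r) (AllP.cons (Just.rot hT hi hR rot4_48 rot4_48r) (AllP.cons (Just.rot hT hi hR rot4_49 rot4_49r) (AllP.cons (Just.rot hT hi hR rot4_50 rot4_50r) (AllP.cons (Just.rot hT hi hR rot4_51 rot4_51r) (AllP.cons (Just.rot hT hi hR rot4_52 rot4_52r) (AllP.cons (Just.rot hT hi hR rot4_53 rot4_53r) (AllP.cons (Just.rot hT hi hR rot4_54 rot4_54r) (AllP.cons (Just.rot hT hi hR rot4_55 rot4_55r) (AllP.cons (Just.rot hT hi hR rot4_56 rot4_56r) (AllP.cons (Just.rot hT hi hR rot4_57 rot4_57r) (AllP.cons (Just.rot hT hi hR rot4_58 rot4_58r) (AllP.cons (Just.rot hT hi hR rot4_59 rot4_59r) (AllP.cons (Just.rot hT hi hR rot4_60 rot4_60r) (AllP.cons (Just.rot hT hi hR rot4_61 rot4_61r) (AllP.cons (Just.base (hb 4 (by decide))) (AllP.cons (Just.epi hT hi ep2a ep2b (seq_mem hi hR rfl hivk hrt H hb hdefs hst ep2c)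 ep2d) (AllP.nil))))))))))))))))))))))))))))))))))))))))))))))))))))))))))))))))
theorem let5 : LetOk H (letV a EX) T L 5 :=
  LetOk.of hT tl5 cov5 (AllP.cons (Just.rot hT hi hR rot5_1 rot5_1r) (AllP.cons (Just.rot hT hi hR rot5_2 rot5_2r) (AllP.cons (Just.rot hT hi hR rot5_3 rot5_3r) (AllP.cons (Just.rot hT hi hR rot5_4 rot5_4r) (AllP.cons (Just.rot hT hi hR rot5_5 rot5_5r) (AllP.cons (Just.rot hT hi hR rot5_6 rot5_6r) (AllP.cons (Just.rot hT hi hR rot5_7 rot5_7r) (AllP.cons (Just.rot hT hi hR rot5_8 rot5_8r) (AllP.cons (Just.rot hT hi hR rot5_9 rot5_9r) (AllP.cons (Just.rot hT hi hR rot5_10 rot5_10r) (AllP.cons (Just.rot hT hi hR rot5_11 rot5_11r) (AllP.cons (Just.rot hT hi hR rot5_12 rot5_12r) (AllP.cons (Just.rot hT hi hR rot5_13 rot5_13r) (AllP.cons (Just.rot hT hi hR rot5_14 rot5_14r) (AllP.cons (Just.rot hT hi hR rot5_15 rot5_15r) (AllP.cons (Just.rot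 hT hi hR rot5_16 rot5_16r) (AllP.cons (Just.rot hT hi hR rot5_17 rot5_17r) (AllP.cons (Just.rot hT hi hR rot5_18 rot5_18r) (AllP.cons (Just.rot hT hi hR rot5_19 rot5_19r) (AllP.cons (Just.rot hT hi hR rot5_20 rot5_20r) (AllP.cons (Just.rot hT hi hR rot5_21 rot5_21r) (AllP.cons (Just.rot hT hi hR rot5_22 rot5_22r) (AllP.cons (Just.rot hT hi hR rot5_23 rot5_23r) (AllP.cons (Just.rot hT hi hR rot5_24 rot5_24r) (AllP.cons (Just.rot hT hi hR rot5_25 rot5_25r) (AllP.cons (Just.rot hT hi hR rot5_26 rot5_26r) (AllP.cons (Just.rot hT hi hR rot5_27 rot5_27r) (AllP.cons (Just.rot hT hi hR rot5_28 rot5_28r) (AllP.cons (Just.rot hT hi hR rot5_29 rot5_29r) (AllP.cons (Just.rot hT hi hR rot5_30 rot5_30r) (AllP.cons (Just.rot hT hi hR rot5_31 rot5_31r) (AllP.cons (Just.rot hT hi hR rot5_32 rot5_32r) (AllP.cons (Just.rot hT hi hR rot5_33 rot5_33r) (AllP.cons (Just.rot hT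 hi hR rot5_34 rot5_34r) (AllP.cons (Just.rot hT hi hR rot5_35 rot5_35r) (AllP.cons (Just.rot hT hi hR rot5_36 rot5_36r) (AllP.cons (Just.base (hb 5 (by decide))) (AllP.cons (Just.epi hT hi ep8a ep8b (seq_mem hi hR rfl hivk hrt H hb hdefs hst ep8c) ep8d) (AllP.nil)))))))))))))))))))))))))))))))))))))))
theorem let6 : LetOk H (letV a EX) T L 6 :=
  LetOk.of hT tl6 cov6 (AllP.cons (Just.rot hT hi hR rot6_1 rot6_1r) (AllP.cons (Just.rot hT hi hR rot6_2 rot6_2r) (AllP.cons (Just.rot hT hi hR rot6_3 rot6_3r) (AllP.cons (Just.rot hT hi hR rot6_4 rot6_4r) (AllP.cons (Just.rot hT hi hR rot6_5 rot6_5r) (AllP.cons (Just.rot hT hi hR rot6_6 rot6_6r) (AllP.cons (Just.rot hT hi hR rot6_7 rot6_7r) (AllP.cons (Just.rot hT hi hR rot6_8 rot6_8r) (AllP.cons (Just.rot hT hi hR rot6_9 rot6_9r) (AllP.cons (Just.rot hT hi hR rot6_10 rot6_10r) (AllP.cons (Just.rot hT hi hR rot6_11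 rot6_11r) (AllP.cons (Just.rot hT hi hR rot6_12 rot6_12r) (AllP.cons (Just.rot hT hi hR rot6_13 rot6_13r) (AllP.cons (Just.rot hT hi hR rot6_14 rot6_14r) (AllP.cons (Just.rot hT hi hR rot6_15 rot6_15r) (AllP.cons (Just.rot hT hi hR rot6_16 rot6_16r) (AllP.cons (Just.rot hT hi hR rot6_17 rot6_17r) (AllP.cons (Just.rot hT hi hR rot6_18 rot6_18r) (AllP.cons (Just.rot hT hi hR rot6_19 rot6_19r) (AllP.cons (Just.rot hT hi hR rot6_20 rot6_20r) (AllP.cons (Just.rot hT hi hR rot6_21 rot6_21r) (AllP.cons (Just.rot hT hi hR rot6_22 rot6_22r) (AllP.cons (Just.epi hT hi ep5a ep5b (seq_mem hi hR rfl hivk hrt H hb hdefs hst ep5c) ep5d) (AllP.cons (Just.epi hT hi ep7a ep7b (seq_mem hi hR rfl hivk hrt H hb hdefs hst ep7c) ep7d) (AllP.cons (Just.epi hT hi ep10a ep10b (seq_mem hi hR rfl hivk hrt H hb hdefs hst ep10c) ep10d) (AllP.nil))))))))))))))))))))))))))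
theorem let7 : LetOk H (letV a EX) T L 7 :=
  LetOk.of hT tl7 cov7 (AllP.cons (Just.rot hT hi hR rot7_1 rot7_1r) (AllP.cons (Just.rot hT hi hR rot7_2 rot7_2r) (AllP.cons (Just.rot hT hi hR rot7_3 rot7_3r) (AllP.cons (Just.rot hT hi hR rot7_4 rot7_4r) (AllP.cons (Just.rot hT hi hR rot7_5 rot7_5r) (AllP.cons (Just.rot hT hi hR rot7_6 rot7_6r) (AllP.cons (Just.rot hT hi hR rot7_7 rot7_7r) (AllP.cons (Just.rot hT hi hR rot7_8 rot7_8r) (AllP.cons (Just.rot hT hi hR rot7_9 rot7_9r) (AllP.cons (Just.rot hT hi hR rot7_10 rot7_10r) (AllP.cons (Just.rot hT hi hR rot7_11 rot7_11r) (AllP.cons (Just.rot hT hi hR rot7_12 rot7_12r) (AllP.cons (Just.rot hT hi hR rot7_13 rot7_13r) (AllP.cons (Just.rot hT hi hR rot7_14 rot7_14r) (AllP.cons (Just.rot hT hi hR rot7_15 rot7_15r) (AllP.cons (Just.rot hT hi hR rot7_16 rot7_16r) (AllP.cons (Just.rot hT hi hR rot7_17 rot7_17r)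 (AllP.cons (Just.rot hT hi hR rot7_18 rot7_18r) (AllP.cons (Just.rot hT hi hR rot7_19 rot7_19r) (AllP.cons (Just.rot hT hi hR rot7_20 rot7_20r) (AllP.cons (Just.rot hT hi hR rot7_21 rot7_21r) (AllP.cons (Just.rot hT hi hR rot7_22 rot7_22r) (AllP.cons (Just.rot hT hi hR rot7_23 rot7_23r) (AllP.cons (Just.rot hT hi hR rot7_24 rot7_24r) (AllP.cons (Just.rot hT hi hR rot7_25 rot7_25r) (AllP.cons (Just.rot hT hi hR rot7_26 rot7_26r) (AllP.cons (Just.rot hT hi hR rot7_27 rot7_27r) (AllP.cons (Just.rot hT hi hR rot7_28 rot7_28r) (AllP.cons (Just.rot hT hi hR rot7_29 rot7_29r) (AllP.cons (Just.base (hb 7 (by decide))) (AllP.cons (Just.epi hT hi ep0a ep0b (seq_mem hi hR rfl hivk hrt H hb hdefs hst ep0c) ep0d) (AllP.cons (Just.epi hT hi ep1a ep1b (seq_mem hi hR rfl hivk hrt H hb hdefs hst ep1c) ep1d) (AllP.cons (Just.epi hT hi ep9a ep9b (seq_mem hi hR rfl hivk hrt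 H hb hdefs hst ep9c) ep9d) (AllP.nil))))))))))))))))))))))))))))))))))
theorem let8 : LetOk H (letV a EX) T L 8 :=
  LetOk.of hT tl8 cov8 (AllP.cons (Just.rot hT hi hR rot8_1 rot8_1r) (AllP.cons (Just.rot hT hi hR rot8_2 rot8_2r) (AllP.cons (Just.rot hT hi hR rot8_3 rot8_3r) (AllP.cons (Just.rot hT hi hR rot8_4 rot8_4r) (AllP.cons (Just.rot hT hi hR rot8_5 rot8_5r) (AllP.cons (Just.rot hT hi hR rot8_6 rot8_6r) (AllP.cons (Just.rot hT hi hR rot8_7 rot8_7r) (AllP.cons (Just.rot hT hi hR rot8_8 rot8_8r) (AllP.cons (Just.rot hT hi hR rot8_9 rot8_9r) (AllP.cons (Just.rot hT hi hR rot8_10 rot8_10r) (AllP.cons (Just.rot hT hi hR rot8_11 rot8_11r) (AllP.cons (Just.rot hT hi hR rot8_12 rot8_12r) (AllP.cons (Just.rot hT hi hR rot8_13 rot8_13r) (AllP.cons (Just.rot hT hi hR rot8_14 rot8_14r) (AllP.cons (Just.rot hT hi hR rot8_15 rot8_15r) (AllP.cons (Just.rot hT hi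 hR rot8_16 rot8_16r) (AllP.cons (Just.rot hT hi hR rot8_17 rot8_17r) (AllP.cons (Just.rot hT hi hR rot8_18 rot8_18r) (AllP.cons (Just.rot hT hi hR rot8_19 rot8_19r) (AllP.cons (Just.rot hT hi hR rot8_20 rot8_20r) (AllP.cons (Just.rot hT hi hR rot8_21 rot8_21r) (AllP.cons (Just.rot hT hi hR rot8_22 rot8_22r) (AllP.cons (Just.rot hT hi hR rot8_23 rot8_23r) (AllP.cons (Just.rot hT hi hR rot8_24 rot8_24r) (AllP.cons (Just.rot hT hi hR rot8_25 rot8_25r) (AllP.cons (Just.rot hT hi hR rot8_26 rot8_26r) (AllP.cons (Just.rot hT hi hR rot8_27 rot8_27r) (AllP.cons (Just.rot hT hi hR rot8_28 rot8_28r) (AllP.cons (Just.rot hT hi hR rot8_29 rot8_29r) (AllP.nil))))))))))))))))))))))))))))))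
theorem hlet : AllP (LetOk H (letV a EX) T L) L :=
  show AllP (LetOk H (letV a EX) T L) [1, 2, 3, 4, 5, 6, 7, 8] from AllP.cons (let1 hi hR hb) (AllP.cons (let2 hi hR hb) (AllP.cons (let3 hi hR hb) (AllP.cons (let4 hi hR hb) (AllP.cons (let5 hi hR hb) (AllP.cons (let6 hi hR hb) (AllP.cons (let7 hi hR hb) (AllP.cons (let8 hi hR hb) (AllP.nil))))))))
end

theorem cert : Cert 7 6 RL BW fP 22275 :=
  Cert.of hT ⟨hsq, hrel⟩ hPZ (fun _ _ _ hi hR _ hb => hlet hi hR hb) hcov hg (by decide +kernel)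

end Cfsg.Agent.Spor.McA
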